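import Cfsg.Agent.Lib.BlockRational.Section
import Cfsg.Agent.Lib.BlockHeights.Rank
import Cfsg.Agent.Lib.BlockHeights.SectionCount
import Cfsg.Agent.Lib.Blocks.DefectOneGalois
import Cfsg.Agent.Lib.Blocks.PConjugate
import Cfsg.Agent.Lib.HeightCenter.CenterSubsections

/-!
# At least as many `p`-rational characters in a block as its regular rank
-/

set_option autoImplicit false
set_option linter.unusedSectionVars false
set_option linter.style.haveILetI false

namespace Cfsg.Agent.Lib.BlockRational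

open Cfsg Cfsg.Agent.Lib.Blocks Cfsg.Agent.Lib.Characters Cfsg.Agent.Lib.BlockHeights
open scoped ComplexConjugate

universe u

variable {G : Type u} [Group G] [Fintype G] {M : Ideal AlgInt} [hMp : M.IsPrime] {p : ℕ}
  {B : Set (IrrCharacter G)}

theorem ker_eq_finsum [Fintype (IrrCharacter G)] (g h : G) :
    ker B g h = ∑ᶠ χ ∈ B, (χ : G → ℂ) g * conj ((χ : G → ℂ) h) := by
  classical
  rw [finsum_irr_eq_sum_ite]
  rfl

theorem complexAut_apply_pow {χ : G → ℂ} (hχ : IsCharacter G χ) {n k : ℕ} {τ : ℂ ≃+* ℂ}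
    (hτ : ∀ z : ℂ, z ^ n = 1 → τ z = z ^ k) {g : G} (hg : orderOf g ∣ n) :
    τ (χ g) = χ (g ^ k) := by
  obtain ⟨ι, hι, μ, hμ, h⟩ := Cfsg.Agent.Lib.BlockHeights.exists_eigen_sum hχ g
  have h1 := h 1
  simp only [pow_one] at h1
  rw [h1, map_sum, h k]
  refine Finset.sum_congr rfl fun i _ => hτ _ ?_
  obtain ⟨c, rfl⟩ := hg
  rw [pow_mul, hμ i, one_pow]

theorem pow_eq_self_of_modEq {g : G} {k m : ℕ} (hd : orderOf g ∣ m) (hk : k ≡ 1 [MOD m]) :
    g ^ k = g := by
  conv_rhs => rw [← pow_one g]
  exact pow_eq_pow_iff_modEq.2 (hk.of_dvd hd)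

theorem orderOf_dvd_ordCompl (hp : p.Prime) {g : G} (hg : ¬ p ∣ orderOf g) :
    orderOf g ∣ Nat.card G / p ^ (Nat.card G).factorization p := by
  have h1 : orderOf g ∣ p ^ (Nat.card G).factorization p *
      (Nat.card G / p ^ (Nat.card G).factorization p) := by
    rw [Nat.ordProj_mul_ordCompl_eq_self]; exact orderOf_dvd_natCard g
  exact (Nat.Coprime.pow_right _ (hp.coprime_iff_not_dvd.2 hg).symm).dvd_of_dvd_mul_left h1

/-- The image of a character under a twist fixing the regular elements stays in the block. -/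
theorem mem_of_eq_on_regular (hM : IsPModular p M) (hB : IsPBlock M B) {χ ψ : IrrCharacter G}
    (hχ : χ ∈ B) (h : ∀ g, IsPRegular p g → (ψ : G → ℂ) g = (χ : G → ℂ) g) : ψ ∈ B := by
  classical
  by_contra hψ
  have h0 := regInner_eq_zero hM hB hχ hψ
  rw [regInner, classInner, mul_eq_zero] at h0
  have h1 := h0.resolve_left (inv_ne_zero natCard_ne_zero_complex)
  have h2 : ((∑ g : G, if IsPRegular p g then Complex.normSq ((χ : G → ℂ) g) else 0 : ℝ) : ℂ) = 0 := by
    classical
    rw [← h1]
    push_cast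
    refine Finset.sum_congr rfl fun g _ => ?_
    by_cases hg : IsPRegular p g
    · rw [if_pos hg, pRegularPart_eq]; beta_reduce; rw [regInd_of_regular hg, one_mul, h g hg, Complex.mul_conj]
    · rw [if_neg hg, pRegularPart_eq]; beta_reduce; rw [regInd_of_singular hg, zero_mul, zero_mul]; simp
  classical
  have h3 := Complex.ofReal_eq_zero.1 h2
  rw [Finset.sum_eq_zero_iff_of_nonneg fun g _ => by
    split_ifs <;> simp [Complex.normSq_nonneg]] at h3
  have h4 := h3 1 (Finset.mem_univ _)
  rw [if_pos (isPRegular_one hM.1), Complex.normSq_eq_zero] at h4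
  exact IsIrrCharacter.apply_one_ne_zero χ.2 h4

open scoped Classical in
/-- **The fixed characters of a generating twist.** -/
theorem blockRank_le_card_fixed (hM : IsPModular p M) (hB : IsPBlock M B) {k : ℕ}
    (hk : Nat.Coprime k (Nat.card G))
    (hk1 : k ≡ 1 [MOD Nat.card G / p ^ (Nat.card G).factorization p]) :
    blockRank p B ≤
      Nat.card {χ : IrrCharacter G // χ ∈ B ∧ ∀ g, (χ : G → ℂ) (g ^ k) = (χ : G → ℂ) g} := by
  haveI := Fintype.ofFinite (IrrCharacter G)
  have hp := hM.1
  haveI : NeZero (Nat.card G) := ⟨Nat.card_pos.ne'⟩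
  obtain ⟨τ, hτ⟩ := exists_complexAut_pow (n := Nat.card G) hk
  let f : IrrCharacter G → IrrCharacter G := autIrr τ
  have hf : ∀ (χ : IrrCharacter G) g, (f χ : G → ℂ) g = (χ : G → ℂ) (g ^ k) := fun χ g =>
    complexAut_apply_pow (irr_isCharacter χ) hτ (orderOf_dvd_natCard g)
  have hreg : ∀ g : G, ¬ p ∣ orderOf g → g ^ k = g := fun g hg =>
    pow_eq_self_of_modEq (orderOf_dvd_ordCompl hp hg) hk1
  have hfB : ∀ χ ∈ B, f χ ∈ B := fun χ hχ =>
    mem_of_eq_on_regular hM hB hχ fun g hg => by rw [hf, hreg g hg]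
  have hfinj : Function.Injective f := fun χ ψ h => Subtype.ext (funext fun g =>
    τ.injective (by simpa [f, autIrr_apply] using congrFun (congrArg Subtype.val h) g))
  set s := Finset.univ.filter (· ∈ B) with hs
  have himg : s.image f = s := by
    refine Finset.eq_of_subset_of_card_le ?_ (by rw [Finset.card_image_of_injective _ hfinj])
    intro ψ hψ
    obtain ⟨χ, hχ, rfl⟩ := Finset.mem_image.1 hψ
    simpa [hs] using hfB χ (by simpa [hs] using hχ)
  have hkers : ∀ a b, ker B a b = ∑ χ ∈ s, (χ : G → ℂ) a * conj ((χ : G → ℂ) b) := fun a b => by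
    rw [hs, Finset.sum_filter]; rfl
  have hkinv : ∀ a b, ker B (a ^ k) (b ^ k) = ker B a b := by
    intro a b
    rw [hkers a b]
    nth_rewrite 1 [← himg]
    rw [Finset.sum_image fun _ _ _ _ h => hfinj h, hkers]
    simp only [hf]
  have hkcl : ∀ d a b : G, ker B (d * a * d⁻¹) b = ker B a b ∧ ker B a (d * b * d⁻¹) = ker B a b :=
    fun d a b => by
      simp only [hkers, irr_isClassFunction _ _ d, and_self]
  -- the number of fixed characters as a trace
  let D : G → ℂ := fun g => ker B (g ^ k) g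
  have hDcl : IsClassFunction G D := fun g d => by
    simp only [D]
    rw [show (d * g * d⁻¹) ^ k = d * g ^ k * d⁻¹ from conj_pow, (hkcl d _ _).1, (hkcl d _ _).2]
  set N := Nat.card {χ : IrrCharacter G // χ ∈ B ∧ ∀ g, (χ : G → ℂ) (g ^ k) = (χ : G → ℂ) g}
    with hN
  have htr : (N : ℂ) * Nat.card G = ∑ g, D g := by
    simp only [D, hkers]
    rw [Finset.sum_comm, hN, Nat.card_eq_fintype_card, Fintype.card_subtype]
    rw [show (Finset.univ.filter fun χ : IrrCharacter G =>
      χ ∈ B ∧ ∀ g, (χ : G → ℂ) (g ^ k) = (χ : G → ℂ) g) = s.filter fun χ => f χ = χ by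
        ext χ
        simp only [hs, Finset.mem_filter, Finset.mem_univ, true_and, Subtype.ext_iff, funext_iff,
          hf]]
    rw [← Finset.sum_boole, Finset.sum_mul]
    refine Finset.sum_congr rfl fun χ _ => ?_
    have h1 : classInner (f χ : G → ℂ) (χ : G → ℂ) = if f χ = χ then 1 else 0 := by
      split_ifs with h
      · rw [h, IsIrrCharacter.classInner_self χ.2]
      · exact IsIrrCharacter.classInner_ne (f χ).2 χ.2 fun he => h (Subtype.ext he)
    rw [← h1, classInner, mul_comm, ← mul_assoc, mul_inv_cancel₀ natCard_ne_zero_complex, one_mul]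
    simp only [hf]
  let F : G → ℂ := fun g => if p ∣ orderOf g then D g else 0
  have hFcl : IsClassFunction G F := fun g d => by
    simp only [F, hDcl g d]
    rw [show orderOf (d * g * d⁻¹) = orderOf g from (MulAut.conj d).orderOf_eq g]
  have hsplit : ∑ g, D g = (Nat.card G : ℂ) * blockRank p B + ∑ g, F g := by
    rw [card_mul_blockRank hM hB, ← Finset.sum_add_distrib]
    refine Finset.sum_congr rfl fun g _ => ?_
    rw [finsum_irr_eq_sum_ite]
    simp only [F, D, pRegularPart_eq]
    by_cases hg : p ∣ orderOf g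
    · rw [if_pos hg]
      simp [regInd_of_singular (show ¬ IsPRegular p g from fun h => h hg)]
    · rw [if_neg hg, add_zero, hreg g hg, ker]
      simp only [regInd_of_regular (show IsPRegular p g from hg), one_mul,
        IsCharacter.apply_inv (irr_isCharacter _)]
  obtain ⟨X, hX, hXrep⟩ := HeightCenter.exists_pElement_reps (G := G) p
  have hsec : ∀ u ∈ X, ∃ n : ℕ, (∑ s : Subgroup.centralizer ({u} : Set G),
      (if IsPRegular p s then F (u * (s : G)) else 0)) =
      (n : ℂ) * Nat.card (Subgroup.centralizer ({u} : Set G)) := by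
    intro u hu
    haveI := Fintype.ofFinite (IrrCharacter (Subgroup.centralizer ({u} : Set G)))
    have hpp : ∀ s : Subgroup.centralizer ({u} : Set G), ¬ p ∣ orderOf s →
        IsPPart p (u * (s : G)) u := fun s hs =>
      ⟨(s : G), rfl, (commute_of_mem_centralizer s).symm, hX u hu,
        by rwa [Subgroup.orderOf_coe]⟩
    by_cases hu1 : u = 1
    · refine ⟨0, ?_⟩
      rw [Nat.cast_zero, zero_mul]
      refine Finset.sum_eq_zero fun s _ => ?_
      by_cases hs : IsPRegular p s
      · rw [if_pos hs]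
        simp only [F, hu1, one_mul]
        rw [if_neg (by rw [Subgroup.orderOf_coe]; exact hs)]
      · rw [if_neg hs]
    have hsing : ∀ s : Subgroup.centralizer ({u} : Set G), ¬ p ∣ orderOf s →
        p ∣ orderOf (u * (s : G)) := fun s hs => by
      by_contra h
      exact hu1 (isPPart_unique hp (hpp s hs) (isPPart_one_of_not_dvd h))
    have hpow : ∀ s : Subgroup.centralizer ({u} : Set G), ¬ p ∣ orderOf s →
        (u * (s : G)) ^ k = u ^ k * (s : G) := fun s hs => by
      rw [(commute_of_mem_centralizer s).symm.mul_pow,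
        hreg (s : G) (by rwa [Subgroup.orderOf_coe])]
    by_cases hconj : IsConj u (u ^ k)
    · obtain ⟨t, ht⟩ := isConj_iff.1 hconj
      have hmem : ∀ y : Subgroup.centralizer ({u} : Set G),
          t⁻¹ * (y : G) * t ∈ Subgroup.centralizer ({u} : Set G) := by
        intro y
        rw [Subgroup.mem_centralizer_singleton_iff]
        have h1 : (y : G) * (t * u * t⁻¹) = (t * u * t⁻¹) * (y : G) := by
          rw [ht]; exact ((commute_of_mem_centralizer y).pow_right k).eq
        calc t⁻¹ * (y : G) * t * u = t⁻¹ * ((y : G) * (t * u * t⁻¹)) * t := by group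
          _ = _ := by rw [h1]; group
      let θh : Subgroup.centralizer ({u} : Set G) →* Subgroup.centralizer ({u} : Set G) :=
        { toFun := fun y => ⟨t⁻¹ * (y : G) * t, hmem y⟩
          map_one' := Subtype.ext (by simp)
          map_mul' := fun a b => Subtype.ext (by simp [mul_assoc]) }
      have hθinj : Function.Injective θh := fun a b h => Subtype.ext (by
        have h1 : t⁻¹ * (a : G) * t = t⁻¹ * (b : G) * t := congrArg Subtype.val h
        simpa using h1)
      let θ := MulEquiv.ofBijective θh (Finite.injective_iff_bijective.1 hθinj)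
      have hθ : ∀ y, ((θ y : Subgroup.centralizer ({u} : Set G)) : G) = t⁻¹ * (y : G) * t :=
        fun y => rfl
      have hker : ∀ (s : Subgroup.centralizer ({u} : Set G)) (b : G), ¬ p ∣ orderOf s →
          ker B ((u * (s : G)) ^ k) b = ker B (u * θ s) b := by
        intro s b hs
        rw [← (hkcl t (u * θ s) b).1, hpow s hs, hθ]
        congr 1
        rw [← ht]
        group
      obtain ⟨n, hn⟩ := exists_trace_section hM (hX u hu) hB θ (fun a y ha hy => by
        rw [← hkinv (u * a) (u * y), hker a _ ha,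
          ← (hkcl t (u * θ a) (u * θ y)).2, hpow y hy, hθ, hθ, ← ht]
        congr 1; group)
      refine ⟨n, ?_⟩
      rw [← hn]
      refine Finset.sum_congr rfl fun s _ => ?_
      by_cases hs : p ∣ orderOf s
      · rw [if_neg (show ¬ IsPRegular p s from fun h => h hs), if_pos hs]
      · rw [if_pos (show IsPRegular p s from hs), if_neg hs]
        simp only [F, if_pos (hsing s hs), D, hker s _ hs]
    · refine ⟨0, ?_⟩
      rw [Nat.cast_zero, zero_mul]
      refine Finset.sum_eq_zero fun s _ => ?_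
      by_cases hs : IsPRegular p s
      · rw [if_pos hs]
        simp only [F, if_pos (hsing s hs), D]
        rw [ker_eq_finsum]
        refine finsum_mul_conj_eq_zero hM hB (x := u ^ k) ?_ (hpp s hs) (Or.inl fun h => hconj h.symm)
        obtain ⟨j, hj⟩ := hX u hu
        obtain ⟨i, -, hi⟩ := (Nat.dvd_prime_pow hp).1 (hj ▸ orderOf_pow_dvd k : orderOf (u ^ k) ∣ p ^ j)
        exact ⟨(s : G), (hpow s hs).symm, ((commute_of_mem_centralizer s).pow_right k).symm, ⟨i, hi⟩,
          by rw [Subgroup.orderOf_coe]; exact hs⟩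
      · rw [if_neg hs]
  choose n hn using hsec
  have hFsum : ∑ g, F g = (Nat.card G : ℂ) * ((∑ u ∈ X.attach, n u.1 u.2 : ℕ) : ℂ) := by
    rw [sum_eq_sum_sections hp X hX hXrep hFcl, ← Finset.sum_attach, Nat.cast_sum, Finset.mul_sum]
    refine Finset.sum_congr rfl fun u _ => ?_
    rw [hn u.1 u.2, mul_left_comm, mul_comm (Nat.card G : ℂ)]
    congr 1
    exact_mod_cast card_conj_mul_card_centralizer u.1
  have key : ((N : ℕ) : ℂ) = ((blockRank p B + ∑ u ∈ X.attach, n u.1 u.2 : ℕ) : ℂ) := by
    apply mul_right_cancel₀ (b := (Nat.card G : ℂ)) natCard_ne_zero_complex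
    rw [htr, hsplit, hFsum]
    push_cast
    ring
  have := Nat.cast_inj.1 key
  omega

/-- **At least `l(B)` characters of a block are `p`-rational.** -/
theorem blockRank_le_card_pRational (hM : IsPModular p M) (hodd : p ≠ 2) (hB : IsPBlock M B) :
    blockRank p B ≤ Nat.card {χ : IrrCharacter G // χ ∈ B ∧ ∀ k : ℕ, Nat.Coprime k (Nat.card G) →
      k ≡ 1 [MOD Nat.card G / p ^ (Nat.card G).factorization p] →
        ∀ g : G, (χ : G → ℂ) (g ^ k) = (χ : G → ℂ) g} := by
  classical
  have hp := hM.1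
  set a := (Nat.card G).factorization p
  set m := Nat.card G / p ^ a
  have hG : p ^ a * m = Nat.card G := Nat.ordProj_mul_ordCompl_eq_self _ p
  have hcop : (p ^ a).Coprime m := (Nat.coprime_ordCompl hp Nat.card_pos.ne').pow_left a
  haveI : NeZero (p ^ a) := ⟨pow_ne_zero _ hp.ne_zero⟩
  obtain ⟨g₀, hg₀⟩ := (ZMod.isCyclic_units_of_prime_pow p hp hodd a).exists_monoid_generator
  obtain ⟨k, hka, hkm⟩ := Nat.chineseRemainder hcop (g₀ : ZMod (p ^ a)).val 1
  have hk : Nat.Coprime k (Nat.card G) := by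
    rw [← hG]
    refine Nat.Coprime.mul_right ?_ ?_
    · rw [Nat.Coprime, hka.gcd_eq]
      exact ZMod.val_coe_unit_coprime g₀
    · rw [Nat.Coprime, hkm.gcd_eq, Nat.gcd_one_left]
  refine (blockRank_le_card_fixed hM hB hk hkm).trans ?_
  refine Nat.card_le_card_of_injective
    (fun χ => ⟨χ.1, χ.2.1, fun k' hk' hk'1 g => ?_⟩) (fun χ ψ h => by
      simpa [Subtype.ext_iff] using h)
  obtain ⟨j, hj⟩ := Submonoid.mem_powers_iff _ _ |>.1
    (hg₀ (ZMod.unitOfCoprime k' (Nat.Coprime.coprime_dvd_right (Dvd.intro m hG) hk')))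
  have hmod : k ^ j ≡ k' [MOD Nat.card G] := by
    rw [← hG]
    refine (Nat.modEq_and_modEq_iff_modEq_mul hcop).1 ⟨?_, ?_⟩
    · rw [← ZMod.natCast_eq_natCast_iff, Nat.cast_pow,
        (ZMod.natCast_eq_natCast_iff _ _ _).2 hka, ZMod.natCast_zmod_val, ← Units.val_pow_eq_pow_val,
        hj, ZMod.coe_unitOfCoprime]
    · exact ((hkm.pow j).trans (by rw [one_pow])).trans hk'1.symm
  have hiter : ∀ i : ℕ, ∀ g, (χ.1 : G → ℂ) (g ^ k ^ i) = (χ.1 : G → ℂ) g := by
    intro i
    induction i with
    | zero => simp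
    | succ i ih =>
      intro g
      rw [pow_succ, pow_mul, χ.2.2, ih]
  rw [← hiter j g]
  exact congrArg _ (pow_eq_pow_iff_modEq.2 (hmod.of_dvd (orderOf_dvd_natCard g))).symm

end Cfsg.Agent.Lib.BlockRational
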