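import Cfsg.Agent.Lib.Modular.RegularCount

/-!
# Automorphisms of the group permute the factors of the group algebra
-/

set_option autoImplicit false
set_option linter.unusedSectionVars false

namespace Cfsg.Agent.Lib.BlockRational

open Matrix Cfsg.Agent.Lib.Modular

variable {k : Type*} [Field k] {G : Type*} [Group G] [Finite G]

theorem eq_zero_of_isNilpotent_mul {n : ℕ} (Y : Matrix (Fin n) (Fin n) k)
    (h : ∀ X : Matrix (Fin n) (Fin n) k, IsNilpotent (X * Y)) : Y = 0 := by
  ext r s
  have h1 := (Matrix.isNilpotent_trace_of_isNilpotent (h (Matrix.single s r 1))).eq_zero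
  rwa [Matrix.trace_single_mul, one_smul] at h1

/-- The trace of a factor composed with an automorphism is the trace of another factor. -/
theorem exists_perm_tr (S : Split k G) (t : G ≃* G) :
    ∃ σ : Equiv.Perm (Fin S.m), ∀ (g : G) (i : Fin S.m),
      S.tr (MonoidAlgebra.of k G (t g)) i = S.tr (MonoidAlgebra.of k G g) (σ i) := by
  classical
  let φ : MonoidAlgebra k G ≃ₐ[k] MonoidAlgebra k G := MonoidAlgebra.domCongr k k t
  have hker : ∀ (ψ : MonoidAlgebra k G ≃ₐ[k] MonoidAlgebra k G) a, S.π a = 0 → S.π (ψ a) = 0 := by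
    intro ψ a ha
    funext i
    refine eq_zero_of_isNilpotent_mul _ fun X => ?_
    obtain ⟨b, hb⟩ := S.surj (Pi.single i X)
    have h0 : S.π (ψ.symm b * a) = 0 := by rw [map_mul, ha, mul_zero]
    have h1 : IsNilpotent (b * ψ a) := by
      have := (S.nil _ h0).map ψ
      rwa [map_mul, AlgEquiv.apply_symm_apply] at this
    have h2 := h1.map ((Pi.evalAlgHom k (fun i => Matrix (Fin (S.d i)) (Fin (S.d i)) k) i).comp S.π)
    simpa [hb] using h2
  choose sec hsec using S.surj
  have key : ∀ (ψ : MonoidAlgebra k G ≃ₐ[k] MonoidAlgebra k G) a b, S.π a = S.π b →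
      S.π (ψ a) = S.π (ψ b) := fun ψ a b h => by
    rw [← sub_eq_zero, ← map_sub, ← map_sub]
    exact hker ψ _ (by rw [map_sub, h, sub_self])
  let F : ((i : Fin S.m) → Matrix (Fin (S.d i)) (Fin (S.d i)) k) →ₐ[k] ((i : Fin S.m) → Matrix (Fin (S.d i)) (Fin (S.d i)) k) :=
    { toFun := fun x => S.π (φ (sec x))
      map_one' := by rw [key φ _ 1 (by rw [hsec, map_one]), map_one, map_one]
      map_mul' := fun x y => by
        rw [key φ _ (sec x * sec y) (by rw [map_mul, hsec, hsec, hsec]), map_mul, map_mul]
      map_zero' := by rw [key φ _ 0 (by rw [hsec, map_zero]), map_zero, map_zero]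
      map_add' := fun x y => by
        rw [key φ _ (sec x + sec y) (by rw [map_add, hsec, hsec, hsec]), map_add, map_add]
      commutes' := fun c => by
        rw [key φ _ (algebraMap k _ c) (by rw [hsec, AlgHom.commutes]), AlgEquiv.commutes,
          AlgHom.commutes] }
  have hF : ∀ a, F (S.π a) = S.π (φ a) := fun a => key φ _ _ (hsec _)
  have hFbij : Function.Bijective F := by
    refine ⟨fun x y h => ?_, fun y => ⟨S.π (φ.symm (sec y)), ?_⟩⟩
    · have h1 : S.π (φ (sec x)) = S.π (φ (sec y)) := h
      have h2 := key φ.symm _ _ h1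
      rwa [AlgEquiv.symm_apply_apply, AlgEquiv.symm_apply_apply, hsec, hsec] at h2
    · rw [hF, AlgEquiv.apply_symm_apply, hsec]
  let e : Fin S.m → ((i : Fin S.m) → Matrix (Fin (S.d i)) (Fin (S.d i)) k) := fun j => Pi.single j 1
  have he : ∀ i, ∀ j, F (e j) i = 0 ∨ F (e j) i = 1 := by
    intro i j
    haveI := S.ne i
    have hc : ∀ Y : Matrix (Fin (S.d i)) (Fin (S.d i)) k, Commute Y (F (e j) i) := by
      intro Y
      obtain ⟨y, hy⟩ := hFbij.2 (Pi.single i Y)
      have hz : e j * y = y * e j := by
        funext l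
        by_cases h : l = j
        · subst h; simp [e]
        · simp [e, h]
      have h1 := congrArg (fun z => F z i) hz
      simp only [map_mul, Pi.mul_apply, hy, Pi.single_eq_same] at h1
      exact h1.symm
    obtain ⟨c, hc1⟩ : F (e j) i ∈ Set.range (Matrix.scalar (Fin (S.d i))) :=
      Matrix.mem_range_scalar_of_commute_single fun a b _ => hc _
    have hidem : F (e j) i * F (e j) i = F (e j) i := by
      rw [← Pi.mul_apply, ← map_mul]
      congr 2
      simp [e, ← Pi.single_mul]
    rw [← hc1, ← map_mul] at hidem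
    have hcc : c * c = c := (Matrix.scalar_inj.1 hidem)
    rcases IsIdempotentElem.iff_eq_zero_or_one.1 hcc with h | h
    · exact Or.inl (by rw [← hc1, h, map_zero])
    · exact Or.inr (by rw [← hc1, h, map_one])
  have hsum : ∀ i, ∑ j, F (e j) i = 1 := by
    intro i
    rw [← Finset.sum_apply, ← map_sum, Finset.univ_sum_single (fun _ => 1), ← Pi.one_def, map_one,
      Pi.one_apply]
  have hex : ∀ i, ∃ j, F (e j) i = 1 := by
    intro i
    haveI := S.ne i
    by_contra hcon
    push Not at hcon
    have := hsum i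
    rw [Finset.sum_eq_zero fun j _ => (he i j).resolve_right (hcon j)] at this
    exact zero_ne_one this
  choose τ hτ using hex
  have hother : ∀ i j, j ≠ τ i → F (e j) i = 0 := by
    intro i j hj
    have h1 : F (e j) i * F (e (τ i)) i = 0 := by
      rw [← Pi.mul_apply, ← map_mul]
      have : e j * e (τ i) = 0 := by
        funext l
        by_cases h : l = j
        · subst h; simp [e, hj]
        · simp [e, h]
      rw [this, map_zero, Pi.zero_apply]
    rwa [hτ, mul_one] at h1
  have hsurjτ : Function.Surjective τ := by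
    intro j
    by_contra hcon
    push Not at hcon
    haveI := S.ne j
    have h0 : F (e j) = F 0 := by
      funext i
      rw [map_zero, hother i j fun h => hcon i h.symm, Pi.zero_apply]
    exact one_ne_zero (Pi.single_eq_zero_iff.1 (hFbij.1 h0))
  have hbτ : Function.Bijective τ := Finite.surjective_iff_bijective.1 hsurjτ
  refine ⟨Equiv.ofBijective τ hbτ, fun g i => ?_⟩
  rw [Equiv.ofBijective_apply, Split.tr_apply, Split.tr_apply]
  have hcut : ∀ z : ((i : Fin S.m) → Matrix (Fin (S.d i)) (Fin (S.d i)) k), F z i = F (Pi.single (τ i) (z (τ i))) i := by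
    intro z
    have h1 : Pi.single (τ i) (z (τ i)) = e (τ i) * z := by
      funext l
      by_cases h : l = τ i
      · subst h; simp [e]
      · simp [e, h]
    rw [h1, map_mul, Pi.mul_apply, hτ, one_mul]
  let f : Matrix (Fin (S.d (τ i))) (Fin (S.d (τ i))) k →ₐ[k] Matrix (Fin (S.d i)) (Fin (S.d i)) k :=
    { toFun := fun X => F (Pi.single (τ i) X) i
      map_one' := hτ i
      map_mul' := fun X Y => by rw [← Pi.mul_apply, ← map_mul, Pi.single_mul]
      map_zero' := by rw [Pi.single_zero, map_zero, Pi.zero_apply]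
      map_add' := fun X Y => by rw [← Pi.add_apply, ← map_add, Pi.single_add]
      commutes' := fun c => by
        rw [show algebraMap k (Matrix (Fin (S.d (τ i))) (Fin (S.d (τ i))) k) c =
          (algebraMap k ((i : Fin S.m) → Matrix (Fin (S.d i)) (Fin (S.d i)) k) c) (τ i) from rfl, ← hcut, AlgHom.commutes]
        rfl }
  have hf : ∀ X, f X = F (Pi.single (τ i) X) i := fun X => rfl
  have hfs : Function.Surjective f := by
    intro Y
    obtain ⟨z, hz⟩ := hFbij.2 (Pi.single i Y)
    exact ⟨z (τ i), by rw [hf, ← hcut, hz, Pi.single_eq_same]⟩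
  haveI := S.ne i
  haveI := S.ne (τ i)
  have hfi : Function.Injective f := f.toRingHom.injective
  have hg : S.π (MonoidAlgebra.of k G (t g)) = F (S.π (MonoidAlgebra.of k G g)) := by
    rw [hF]
    congr 1
    simp [φ]
  rw [hg, hcut, ← hf]
  exact Matrix.trace_map (AlgEquiv.ofBijective f ⟨hfi, hfs⟩) _

end Cfsg.Agent.Lib.BlockRational
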