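import Mathlib

/-!
# The trace of a permutation on the image of an idempotent with a permuted basis in the residue field
-/

set_option autoImplicit false
set_option linter.unusedSectionVars false

namespace Cfsg.Agent.Lib.BlockRational

open Matrix

variable {R : Type*} [CommRing R] {ι : Type*} [Fintype ι] [DecidableEq ι]

/-- The matrix of a permutation. -/
def pMat (π : Equiv.Perm ι) : Matrix ι ι R := Matrix.of fun a b => if b = π a then 1 else 0

theorem pMat_mul {κ : Type*} (π : Equiv.Perm ι) (X : Matrix ι κ R) (a : ι) (b : κ) :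
    ((pMat π : Matrix ι ι R) * X) a b = X (π a) b := by
  simp [pMat, Matrix.mul_apply]

theorem mul_pMat {κ : Type*} [Fintype κ] (X : Matrix κ ι R) (σ : Equiv.Perm ι) (a : κ) (b : ι) :
    (X * (pMat σ : Matrix ι ι R)) a b = X a (σ.symm b) := by
  simp only [pMat, Matrix.mul_apply, Matrix.of_apply, mul_ite, mul_one, mul_zero]
  simp only [← Equiv.symm_apply_eq]
  simp

theorem pMat_comm_of_invariant (π σ : Equiv.Perm ι) (X : Matrix ι ι R)
    (h : ∀ a b, X (π a) (σ b) = X a b) : (pMat π : Matrix ι ι R) * X = X * pMat σ := by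
  ext a b
  rw [pMat_mul, mul_pMat]
  simpa using h a (σ.symm b)

/-- An idempotent commuting with a permutation, whose reduction is diagonal with respect to an
equivariant basis, has a natural number as the trace of the permutation on its image. -/
theorem exists_natCast_eq_trace [IsLocalRing R] (π σ : Equiv.Perm ι) (E A : Matrix ι ι R)
    (hE : E * E = E) (hπ : ∀ a b, E (π a) (π b) = E a b)
    (hA : ∀ a b, A (π a) (σ b) = A a b)
    (hdet : (A.map (IsLocalRing.residue R)).det ≠ 0) (d : ι → Prop) [DecidablePred d]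
    (hEA : ∀ a b, IsLocalRing.residue R ((E * A) a b) =
      if d b then IsLocalRing.residue R (A a b) else 0) :
    ∃ n : ℕ, ∑ a, E (π a) a = (n : R) := by
  classical
  set red := IsLocalRing.residue R
  have hunit : IsUnit A.det := by
    refine (isUnit_map_iff red _).1 ?_
    rw [RingHom.map_det, RingHom.mapMatrix_apply]
    exact isUnit_iff_ne_zero.2 hdet
  obtain ⟨E', hE'⟩ : ∃ X, X = A⁻¹ * E * A := ⟨_, rfl⟩
  have hA1 : A⁻¹ * A = 1 := Matrix.nonsing_inv_mul A hunit
  have hA2 : A * A⁻¹ = 1 := Matrix.mul_nonsing_inv A hunit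
  have hcA : pMat π * A = A * pMat σ := pMat_comm_of_invariant π σ A hA
  have hcE : pMat π * E = E * pMat π := pMat_comm_of_invariant π π E hπ
  have hcA' : A⁻¹ * pMat π = pMat σ * A⁻¹ := by
    calc A⁻¹ * pMat π = A⁻¹ * (pMat π * A) * A⁻¹ := by
          rw [Matrix.mul_assoc, Matrix.mul_assoc, hA2, Matrix.mul_one]
      _ = _ := by rw [hcA, ← Matrix.mul_assoc, hA1, Matrix.one_mul]
  have hid : E' * E' = E' := by
    rw [hE']
    calc A⁻¹ * E * A * (A⁻¹ * E * A) = A⁻¹ * E * (A * A⁻¹) * E * A := by
          simp only [Matrix.mul_assoc]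
      _ = _ := by rw [hA2, Matrix.mul_one, Matrix.mul_assoc A⁻¹ E E, hE]
  have hc' : pMat σ * E' = E' * pMat σ := by
    rw [hE']
    calc pMat σ * (A⁻¹ * E * A) = (pMat σ * A⁻¹) * E * A := by simp only [Matrix.mul_assoc]
      _ = A⁻¹ * (pMat π * E) * A := by rw [← hcA']; simp only [Matrix.mul_assoc]
      _ = A⁻¹ * E * (pMat π * A) := by rw [hcE]; simp only [Matrix.mul_assoc]
      _ = _ := by rw [hcA]; simp only [Matrix.mul_assoc]
  set D : Matrix ι ι R := Matrix.diagonal fun b => if d b then 1 else 0 with hD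
  have hred : red.mapMatrix E' = red.mapMatrix D := by
    have h1 : red.mapMatrix (E * A) = red.mapMatrix A * red.mapMatrix D := by
      ext a b
      simp only [RingHom.mapMatrix_apply, Matrix.map_apply, hD, Matrix.diagonal_map (map_zero red),
        Matrix.mul_diagonal, hEA a b]
      split_ifs <;> simp
    rw [hE', Matrix.mul_assoc, map_mul, h1, ← Matrix.mul_assoc, ← map_mul, hA1, map_one,
      Matrix.one_mul]
  have hinv : ∀ b, d (σ b) ↔ d b := by
    intro b
    have h1 := congrFun (congrFun (congrArg red.mapMatrix hc') b) (σ b)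
    rw [RingHom.mapMatrix_apply, RingHom.mapMatrix_apply, Matrix.map_apply, Matrix.map_apply,
      pMat_mul, mul_pMat, Equiv.symm_apply_apply] at h1
    have h2 : ∀ a c, red (E' a c) = red (D a c) := fun a c => congrFun (congrFun hred a) c
    rw [h2, h2, hD, Matrix.diagonal_apply_eq, Matrix.diagonal_apply_eq] at h1
    by_cases hb : d b <;> by_cases hs : d (σ b) <;> simp_all
  have hcD : pMat σ * D = D * pMat σ := by
    refine pMat_comm_of_invariant σ σ D fun a b => ?_
    simp only [hD, Matrix.diagonal_apply, σ.injective.eq_iff, hinv]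
  set W := E' * D + (1 - E') * (1 - D) with hW
  have hDD : D * D = D := by
    rw [hD, Matrix.diagonal_mul_diagonal]
    congr 1; funext b; split_ifs <;> simp
  have hWu : IsUnit W.det := by
    refine (isUnit_map_iff red _).1 ?_
    rw [RingHom.map_det]
    suffices h : red.mapMatrix W = 1 by rw [h, Matrix.det_one]; exact isUnit_one
    have hmd : red.mapMatrix D * red.mapMatrix D = red.mapMatrix D := by rw [← map_mul, hDD]
    rw [hW, map_add, map_mul, map_mul, map_sub, map_sub, map_one, hred, sub_mul, mul_sub, mul_sub,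
      hmd]
    simp
  have hEW : E' * W = W * D := by
    rw [hW]
    calc E' * (E' * D + (1 - E') * (1 - D)) = E' * D := by
          rw [mul_add, ← mul_assoc, ← mul_assoc, hid, mul_sub E' 1 E', mul_one, hid, sub_self,
            zero_mul, add_zero]
      _ = _ := by
          rw [add_mul, mul_assoc, mul_assoc, hDD, sub_mul 1 D D, one_mul, hDD, sub_self, mul_zero,
            add_zero]
  have hcW : pMat σ * W = W * pMat σ := by
    have a1 : Commute (pMat σ : Matrix ι ι R) E' := hc'
    have a2 : Commute (pMat σ : Matrix ι ι R) D := hcD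
    exact (a1.mul_right a2).add_right
      (((Commute.one_right _).sub_right a1).mul_right ((Commute.one_right _).sub_right a2))
  refine ⟨(Finset.univ.filter fun b => σ b = b ∧ d b).card, ?_⟩
  have htr : ∑ a, E (π a) a = Matrix.trace (pMat π * E) := by
    simp only [Matrix.trace, Matrix.diag, pMat_mul]
  have hE2 : E' = W * D * W⁻¹ := by
    rw [← hEW, Matrix.mul_assoc, Matrix.mul_nonsing_inv W hWu, Matrix.mul_one]
  have hEeq : E = A * E' * A⁻¹ := by
    rw [hE']
    calc E = (A * A⁻¹) * E * (A * A⁻¹) := by rw [hA2, Matrix.one_mul, Matrix.mul_one]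
      _ = _ := by simp only [Matrix.mul_assoc]
  rw [htr, hEeq, ← Matrix.mul_assoc, ← Matrix.mul_assoc, hcA, Matrix.mul_assoc A,
    Matrix.trace_mul_comm, ← Matrix.mul_assoc, hA1, Matrix.one_mul, hE2,
    ← Matrix.mul_assoc, ← Matrix.mul_assoc, hcW, Matrix.mul_assoc W, Matrix.trace_mul_comm,
    ← Matrix.mul_assoc, Matrix.nonsing_inv_mul W hWu, Matrix.one_mul]
  simp only [Matrix.trace, Matrix.diag, pMat_mul, hD, Matrix.diagonal_apply]
  rw [← Finset.sum_boole]
  refine Finset.sum_congr rfl fun b _ => ?_
  by_cases hb : σ b = b <;> simp [hb]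

end Cfsg.Agent.Lib.BlockRational
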