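import Cfsg.Agent.Lib.BlockRational.Perm
import Cfsg.Agent.Lib.BlockRational.Factor
import Cfsg.Agent.Lib.Blocks.Principal
import Cfsg.Agent.Lib.Blocks.NormalP
import Cfsg.Agent.Lib.Blocks.TwoCharBlock

/-!
# An automorphism of a section acts on the part of a block with a nonnegative integral trace
-/

set_option autoImplicit false
set_option linter.unusedSectionVars false
set_option linter.style.haveILetI false

namespace Cfsg.Agent.Lib.BlockRational

open Cfsg Cfsg.Agent.Lib.Blocks Cfsg.Agent.Lib.Characters Cfsg.Agent.Lib.Modular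
open scoped ComplexConjugate

universe u

variable {G : Type u} [Group G] [Fintype G] {M : Ideal AlgInt} [hMp : M.IsPrime] {p : ℕ}
  [Fintype (IrrCharacter G)] {B : Set (IrrCharacter G)} {x : G}
  [Fintype (Subgroup.centralizer ({x} : Set G))]
  [Fintype (IrrCharacter (Subgroup.centralizer ({x} : Set G)))]

set_option quotPrecheck false in
local notation "Cx" => Subgroup.centralizer (({x}) : Set G)

open scoped Classical in
/-- The kernel of the projection onto `B`. -/
noncomputable def ker (B : Set (IrrCharacter G)) (g h : G) : ℂ :=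
  ∑ χ : IrrCharacter G, if χ ∈ B then (χ : G → ℂ) g * conj ((χ : G → ℂ) h) else 0

/-- The characters of the centralizer in blocks inducing to `B`. -/
def overSet (M : Ideal AlgInt) (B : Set (IrrCharacter G)) (x : G)
    [Fintype (Subgroup.centralizer ({x} : Set G))] :
    Set (IrrCharacter (Subgroup.centralizer ({x} : Set G))) :=
  {η | IsInducedBlock M (Subgroup.centralizer ({x} : Set G))
    (blockOf M (η : Subgroup.centralizer ({x} : Set G) → ℂ)) B}

open scoped Classical in
/-- The blocks of the centralizer inducing to `B`. -/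
noncomputable def overBlocks (M : Ideal AlgInt) (B : Set (IrrCharacter G)) (x : G)
    [Fintype (Subgroup.centralizer ({x} : Set G))]
    [Fintype (IrrCharacter (Subgroup.centralizer ({x} : Set G)))] :
    Finset (Set (IrrCharacter (Subgroup.centralizer ({x} : Set G)))) :=
  (Finset.univ.image fun η : IrrCharacter (Subgroup.centralizer ({x} : Set G)) =>
    blockOf M (η : Subgroup.centralizer ({x} : Set G) → ℂ)).filter
    fun b => IsInducedBlock M (Subgroup.centralizer ({x} : Set G)) b B

theorem isPBlock_of_mem_overBlocks {b : Set (IrrCharacter Cx)} (hb : b ∈ overBlocks M B x) :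
    IsPBlock M b := by
  classical
  rw [overBlocks, Finset.mem_filter, Finset.mem_image] at hb
  obtain ⟨⟨η, -, rfl⟩, -⟩ := hb
  exact isPBlock_blockOf η

open scoped Classical in
theorem sum_overSet (f : IrrCharacter Cx → ℂ) :
    (∑ η, if η ∈ overSet M B x then f η else 0) =
      ∑ b ∈ overBlocks M B x, ∑ η, if η ∈ b then f η else 0 := by
  rw [Finset.sum_comm]
  refine Finset.sum_congr rfl fun η _ => ?_
  by_cases h : η ∈ overSet M B x
  · rw [if_pos h, Finset.sum_eq_single (blockOf M (η : Cx → ℂ))]
    · rw [if_pos (self_mem_blockOf η)]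
    · intro b hb hne
      rw [if_neg fun hη => hne (IsPBlock.eq_blockOf (isPBlock_of_mem_overBlocks hb) hη)]
    · exact fun hn => absurd (Finset.mem_filter.2
        ⟨Finset.mem_image.2 ⟨η, Finset.mem_univ _, rfl⟩, h⟩) hn
  · rw [if_neg h]
    refine (Finset.sum_eq_zero fun b hb => ?_).symm
    rw [if_neg fun hη => h ?_]
    show IsInducedBlock M Cx (blockOf M (η : Cx → ℂ)) B
    rw [← IsPBlock.eq_blockOf (isPBlock_of_mem_overBlocks hb) hη]
    exact (Finset.mem_filter.1 hb).2

theorem blockPart_overSet (h : Cx → ℂ) (y : Cx) :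
    blockPart (overSet M B x) h y = ∑ b ∈ overBlocks M B x, blockPart b h y := by
  classical
  simp only [blockPart, finsum_irr_eq_sum_ite]
  rw [sum_overSet]

/-- Class functions agreeing on the regular elements have equal block parts there. -/
theorem blockPart_congr_regular {K : Type u} [Group K] [Fintype K] (hM : IsPModular p M)
    {b : Set (IrrCharacter K)} (hb : IsPBlock M b) {F F' : K → ℂ}
    (h : ∀ c, ¬ p ∣ orderOf c → F c = F' c) {y : K} (hy : ¬ p ∣ orderOf y) :
    blockPart b F y = blockPart b F' y := by
  classical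
  haveI := Fintype.ofFinite (IrrCharacter K)
  have h0 := blockPart_eq_zero_of_regular (D := F - F') hM hb
    (fun c hc => by rw [Pi.sub_apply, h c hc, sub_self]) hy
  rw [← sub_eq_zero, ← h0]
  simp only [blockPart, finsum_irr_eq_sum_ite, classInner, Pi.sub_apply, ← Finset.sum_sub_distrib,
    sub_mul]
  refine Finset.sum_congr rfl fun η _ => ?_
  split_ifs
  · rw [Finset.sum_sub_distrib, mul_sub, sub_mul]
  · simp

open scoped Classical in
/-- **The kernel of `B` on a section is the kernel of the blocks over it.** -/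
theorem ker_eq_local (hM : IsPModular p M) (hx : ∃ k : ℕ, orderOf x = p ^ k) (hB : IsPBlock M B)
    {a y : Cx} (ha : ¬ p ∣ orderOf a) (hy : ¬ p ∣ orderOf y) :
    ker B (x * a) (x * y) =
      ∑ η, if η ∈ overSet M B x then (η : Cx → ℂ) a * conj ((η : Cx → ℂ) y) else 0 := by
  let F : Cx → ℂ := fun c => ∑ χ : IrrCharacter G, conj ((χ : G → ℂ) (x * y)) * sectionFun x (χ : G → ℂ) c
  let F' : Cx → ℂ := fun c => ∑ η : IrrCharacter Cx, conj ((η : Cx → ℂ) y) * (η : Cx → ℂ) c
  have hFF : ∀ c, ¬ p ∣ orderOf c → F c = F' c := by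
    intro c hc
    simp only [F, F', sectionFun, mul_comm (conj _)]
    rw [sum_irr_mul_conj, sum_irr_mul_conj]
    by_cases h : IsConj c y
    · rw [if_pos h, if_pos ((isConj_section_iff hM.1 hx hc hy).2 h),
        card_centralizer_mul hM.1 hx hc]
    · rw [if_neg h, if_neg fun hh => h ((isConj_section_iff hM.1 hx hc hy).1 hh)]
  have h1 : ∑ b ∈ overBlocks M B x, blockPart b F a = ker B (x * a) (x * y) := by
    simp only [blockPart_eq_sum Finset.univ fun χ _ => isClassFunction_sectionFun
      (irr_isClassFunction χ), F]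
    rw [Finset.sum_comm, ker]
    refine Finset.sum_congr rfl fun χ _ => ?_
    rw [← Finset.mul_sum]
    by_cases hχ : χ ∈ B
    · rw [if_pos hχ, mul_comm ((χ : G → ℂ) _)]
      congr 1
      have hall := sum_blockPart (M := M)
        (isClassFunction_sectionFun (x := x) (irr_isClassFunction χ)) a
      rw [show (χ : G → ℂ) (x * (a : G)) = sectionFun x (χ : G → ℂ) a from rfl, ← hall]
      refine Finset.sum_subset (Finset.filter_subset _ _) fun b hb hnot => ?_
      obtain ⟨η, -, rfl⟩ := Finset.mem_image.1 hb
      exact blockPart_eq_zero hM hx hB hχ (isPBlock_blockOf η)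
        (fun hind => hnot (Finset.mem_filter.2 ⟨hb, hind⟩)) ha
    · rw [if_neg hχ, Finset.sum_eq_zero fun b hb => ?_, mul_zero]
      refine blockPart_eq_zero hM hx (isPBlock_blockOf χ) (self_mem_blockOf χ)
        (isPBlock_of_mem_overBlocks hb) (fun hind => ?_) ha
      exact hχ (IsInducedBlock.unique hind (Finset.mem_filter.1 hb).2 ▸ self_mem_blockOf χ)
  rw [← h1, Finset.sum_congr rfl fun b hb =>
    blockPart_congr_regular hM (isPBlock_of_mem_overBlocks hb) hFF ha, sum_overSet]
  refine Finset.sum_congr rfl fun b _ => ?_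
  rw [blockPart_eq_sum Finset.univ fun η _ => irr_isClassFunction η]
  refine Finset.sum_congr rfl fun η _ => ?_
  rw [blockPart_irr]
  split_ifs <;> ring

theorem blockCoeff_overSet : blockCoeff (overSet M B x) =
    fun c : Cx => ∑ b ∈ overBlocks M B x, blockCoeff b c := by
  classical
  funext c
  simp only [blockCoeff, finsum_irr_eq_sum_ite]
  rw [← Finset.mul_sum]
  congr 1
  rw [sum_overSet]

theorem memLocalRing_blockCoeff_overSet (hM : IsPModular p M) (c : Cx) :
    MemLocalRing M (blockCoeff (overSet M B x) c) := by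
  rw [blockCoeff_overSet]
  exact memLocalRing_sum _ fun b hb =>
    (isRCentral_blockCoeff hM (isPBlock_of_mem_overBlocks hb)).2 c

open scoped Classical in
/-- Sums over the regular elements against the kernel. -/
theorem sum_ker_mul (hM : IsPModular p M) (hx : ∃ k : ℕ, orderOf x = p ^ k) (hB : IsPBlock M B)
    {h : Cx → ℂ} (hh : IsClassFunction Cx h) {a : Cx} (ha : ¬ p ∣ orderOf a) :
    (Nat.card Cx : ℂ)⁻¹ * (∑ y : Cx, if p ∣ orderOf y then 0 else ker B (x * a) (x * y) * h y) =
      ∑ c, blockCoeff (overSet M B x) c * h (c * a) := by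
  rw [sum_blockCoeff_mul_eq_blockPart _ hh a, blockPart_overSet,
    Finset.sum_congr rfl fun b hb => blockPart_congr_regular hM (isPBlock_of_mem_overBlocks hb)
      (F' := fun c => if p ∣ orderOf c then 0 else h c) (fun c hc => by rw [if_neg hc]) ha,
    ← blockPart_overSet]
  simp only [blockPart, finsum_irr_eq_sum_ite, classInner]
  have : ∀ η : IrrCharacter Cx, (if η ∈ overSet M B x then (Nat.card Cx : ℂ)⁻¹ *
      (∑ c : Cx, (if p ∣ orderOf c then 0 else h c) * conj ((η : Cx → ℂ) c)) * (η : Cx → ℂ) a
      else 0) = ∑ c : Cx, (Nat.card Cx : ℂ)⁻¹ * ((if p ∣ orderOf c then 0 else h c) *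
        (if η ∈ overSet M B x then (η : Cx → ℂ) a * conj ((η : Cx → ℂ) c) else 0)) := by
    intro η
    split_ifs
    · rw [Finset.mul_sum, Finset.sum_mul]
      exact Finset.sum_congr rfl fun c _ => by ring
    · simp
  refine Eq.trans (b := ∑ η : IrrCharacter Cx, ∑ c : Cx, (Nat.card Cx : ℂ)⁻¹ *
    ((if p ∣ orderOf c then 0 else h c) * (if η ∈ overSet M B x then
      (η : Cx → ℂ) a * conj ((η : Cx → ℂ) c) else 0))) ?_
    (Finset.sum_congr rfl fun η _ => by convert (this η).symm using 2; congr!)
  rw [Finset.sum_comm, Finset.mul_sum]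
  refine Finset.sum_congr rfl fun c _ => ?_
  by_cases hc : p ∣ orderOf c
  · simp [hc]
  · rw [if_neg hc, ← Finset.mul_sum, ← Finset.mul_sum, ker_eq_local hM hx hB ha hc]
    simp [hc, mul_comm (h c)]

/-- The classes of regular elements. -/
abbrev RegClass (p : ℕ) (x : G) : Type u :=
  {c : ConjClasses (Subgroup.centralizer ({x} : Set G)) //
    ∃ g, ConjClasses.mk g = c ∧ (orderOf g).Coprime p}

/-- A representative. -/
noncomputable def rep {p : ℕ} {x : G} (a : RegClass p x) : Subgroup.centralizer ({x} : Set G) :=
  a.2.choose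

theorem mk_rep (a : RegClass p x) : ConjClasses.mk (rep a) = a.1 := a.2.choose_spec.1

theorem rep_regular (hp : p.Prime) (a : RegClass p x) : ¬ p ∣ orderOf (rep a) :=
  hp.coprime_iff_not_dvd.1 a.2.choose_spec.2.symm

theorem isConj_rep (a : RegClass p x) {y : Cx} (hy : ConjClasses.mk y = a.1) :
    IsConj (rep a) y := ConjClasses.mk_eq_mk_iff_isConj.1 ((mk_rep a).trans hy.symm)

open scoped Classical in
/-- The number of elements in a class. -/
noncomputable def size (a : RegClass p x) : ℕ :=
  (Finset.univ.filter fun y : Cx => ConjClasses.mk y = a.1).card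

open scoped Classical in
theorem sum_regular (hp : p.Prime) [Fintype (RegClass p x)] {f : Cx → ℂ}
    (hf : IsClassFunction Cx f) :
    (∑ y : Cx, if p ∣ orderOf y then 0 else f y) = ∑ a : RegClass p x, (size a : ℂ) * f (rep a) := by
  have h1 : ∀ a : RegClass p x, (size a : ℂ) * f (rep a) =
      ∑ y : Cx, if ConjClasses.mk y = a.1 then f y else 0 := by
    intro a
    rw [← Finset.sum_filter, Finset.sum_congr rfl fun y hy =>
      (classFunction_conj hf (isConj_rep a (Finset.mem_filter.1 hy).2)).symm, Finset.sum_const,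
      nsmul_eq_mul]
    rfl
  rw [Finset.sum_congr rfl fun a _ => h1 a, Finset.sum_comm]
  refine Finset.sum_congr rfl fun y _ => ?_
  by_cases hy : p ∣ orderOf y
  · rw [if_pos hy]
    refine (Finset.sum_eq_zero fun a _ => if_neg fun h => ?_).symm
    obtain ⟨g, hg⟩ := isConj_iff.1 (isConj_rep a h)
    have ho := (MulAut.conj g).orderOf_eq (rep a)
    rw [MulAut.conj_apply, hg] at ho
    exact rep_regular hp a (ho ▸ hy)
  · rw [if_neg hy, Finset.sum_eq_single (⟨ConjClasses.mk y, y, rfl,
      (hp.coprime_iff_not_dvd.2 hy).symm⟩ : RegClass p x)]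
    · rw [if_pos rfl]
    · intro a _ hne
      rw [if_neg fun h => hne (Subtype.ext h.symm)]
    · simp

theorem isClassFunction_ker_right (a : G) :
    IsClassFunction Cx (fun y : Cx => ker B a (x * y)) := by
  intro g h
  simp only [ker]
  refine Finset.sum_congr rfl fun χ _ => ?_
  split_ifs
  · have := isClassFunction_sectionFun (x := x) (irr_isClassFunction χ) g h
    simp only [sectionFun] at this
    rw [this]
  · rfl

theorem isClassFunction_ker_left (b : G) :
    IsClassFunction Cx (fun y : Cx => ker B (x * y) b) := by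
  intro g h
  simp only [ker]
  refine Finset.sum_congr rfl fun χ _ => ?_
  split_ifs
  · have := isClassFunction_sectionFun (x := x) (irr_isClassFunction χ) g h
    simp only [sectionFun] at this
    rw [this]
  · rfl

open scoped Classical in
/-- **The trace of an automorphism of a section on the part of `B` is a natural number.** -/
theorem exists_trace_section (hM : IsPModular p M) (hx : ∃ k : ℕ, orderOf x = p ^ k)
    (hB : IsPBlock M B) (θ : Cx ≃* Cx)
    (hinv : ∀ a y : Cx, ¬ p ∣ orderOf a → ¬ p ∣ orderOf y →
      ker B (x * θ a) (x * θ y) = ker B (x * a) (x * y)) :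
    ∃ n : ℕ, (∑ y : Cx, if p ∣ orderOf y then 0 else ker B (x * θ y) (x * y)) =
      (n : ℂ) * Nat.card Cx := by
  have hp := hM.1
  haveI := Fact.mk hp
  haveI : CharP (ResField M) p := resField_charP hM
  haveI : IsAlgClosed (ResField M) := resField_isAlgClosed
  haveI : Finite (RegClass p x) := Subtype.finite
  haveI : Fintype (RegClass p x) := Fintype.ofFinite _
  obtain ⟨S⟩ := exists_split (k := ResField M) (G := Cx)
  obtain ⟨σ, hσ⟩ := exists_perm_tr S θ
  let e0 : RegClass p x ≃ Fin S.m := Finite.equivFinOfCardEq (S.card_regular p)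
  have hcoe : ∀ (g : Cx) (i : Fin S.m), ∀ h, IsConj g h →
      S.tr (MonoidAlgebra.of (ResField M) Cx g) i = S.tr (MonoidAlgebra.of (ResField M) Cx h) i := by
    intro g i h hgh
    obtain ⟨d, rfl⟩ := isConj_iff.1 hgh
    rw [S.tr_conj]
  -- the permutation of the classes
  have hθord : ∀ y : Cx, orderOf (θ y) = orderOf y := θ.orderOf_eq
  let fΩ : RegClass p x → RegClass p x := fun a => ⟨ConjClasses.mk (θ (rep a)), θ (rep a), rfl,
    by rw [hθord]; exact a.2.choose_spec.2⟩
  have hfinj : Function.Injective fΩ := by
    intro a b h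
    have h1 := ConjClasses.mk_eq_mk_iff_isConj.1 (congrArg Subtype.val h)
    obtain ⟨d, hd⟩ := isConj_iff.1 h1
    apply Subtype.ext
    rw [← mk_rep a, ← mk_rep b, ConjClasses.mk_eq_mk_iff_isConj]
    refine isConj_iff.2 ⟨θ.symm d, θ.injective ?_⟩
    simpa using hd
  let π : Equiv.Perm (RegClass p x) := Equiv.ofBijective fΩ (Finite.injective_iff_bijective.1 hfinj)
  have hπr : ∀ a, IsConj (rep (π a)) (θ (rep a)) := fun a => isConj_rep (π a) rfl
  have hπmem : ∀ a (y : Cx), ConjClasses.mk y = a.1 ↔ ConjClasses.mk (θ y) = (π a).1 := by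
    intro a y
    show _ ↔ ConjClasses.mk (θ y) = ConjClasses.mk (θ (rep a))
    rw [← mk_rep a, ConjClasses.mk_eq_mk_iff_isConj, ConjClasses.mk_eq_mk_iff_isConj]
    refine ⟨fun h => MonoidHom.map_isConj θ.toMonoidHom h, fun h => ?_⟩
    simpa using MonoidHom.map_isConj θ.symm.toMonoidHom h
  have hsize : ∀ a, size (π a) = size a := by
    intro a
    refine Finset.card_bij' (fun y _ => θ.symm y) (fun y _ => θ y) ?_ ?_ ?_ ?_
    · intro y hy
      simp only [Finset.mem_filter, Finset.mem_univ, true_and] at hy ⊢
      exact (hπmem a _).2 (by simpa using hy)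
    · intro y hy
      simp only [Finset.mem_filter, Finset.mem_univ, true_and] at hy ⊢
      exact (hπmem a y).1 hy
    · intros; simp
    · intros; simp
  -- the idempotent
  have hC0 : (Nat.card Cx : ℂ) ≠ 0 := natCard_ne_zero_complex
  let Ec : RegClass p x → RegClass p x → ℂ := fun a b =>
    (Nat.card Cx : ℂ)⁻¹ * ((size b : ℂ) * ker B (x * rep a) (x * rep b))
  have hEh : ∀ (h : Cx → ℂ), IsClassFunction Cx h → ∀ a : RegClass p x,
      ∑ b, Ec a b * h (rep b) = ∑ c, blockCoeff (overSet M B x) c * h (c * rep a) := by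
    intro h hh a
    rw [← sum_ker_mul hM hx hB hh (rep_regular hp a),
      sum_regular (f := fun y : Cx => ker B (x * rep a) (x * y) * h y) hp
        (fun g d => by
          have := isClassFunction_ker_right (B := B) (x := x) (x * rep a) g d
          simp only at this ⊢
          rw [this, hh g d]),
      Finset.mul_sum]
    exact Finset.sum_congr rfl fun b _ => by simp only [Ec]; ring
  have hind : ∀ a b : RegClass p x,
      (if IsConj (rep a) (rep b) then (1 : ℂ) else 0) = if a = b then 1 else 0 := by
    intro a b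
    by_cases h : a = b
    · subst h; rw [if_pos (IsConj.refl _), if_pos rfl]
    · rw [if_neg h, if_neg fun hc => h (Subtype.ext
        (by rw [← mk_rep a, ← mk_rep b, ConjClasses.mk_eq_mk_iff_isConj.2 hc]))]
  have hEmem : ∀ a b, MemLocalRing M (Ec a b) := by
    intro a b
    have h1 := hEh (classIndicator (rep b)) (isClassFunction_classIndicator _) a
    have hci : ∀ c, classIndicator (rep b) (rep c) = if b = c then 1 else 0 := fun c => by
      rw [← hind b c, classIndicator]
      split_ifs <;> rfl
    simp only [hci, mul_ite, mul_one, mul_zero, Finset.sum_ite_eq, Finset.mem_univ, if_true] at h1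
    rw [h1]
    exact memLocalRing_sum _ fun c _ => memLocalRing_mul (memLocalRing_blockCoeff_overSet hM c)
      ((isRCentral_classIndicator _).2 _)
  let E : Matrix (RegClass p x) (RegClass p x) (locSubring M) :=
    Matrix.of fun a b => ⟨Ec a b, hEmem a b⟩
  have hE : E * E = E := by
    ext a c
    rw [Matrix.mul_apply, AddSubmonoidClass.coe_finsetSum]
    show ∑ b, Ec a b * Ec b c = Ec a c
    let h : Cx → ℂ := fun y => ∑ η : IrrCharacter Cx,
      if η ∈ overSet M B x then (η : Cx → ℂ) y * conj ((η : Cx → ℂ) (rep c)) else 0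
    have hh : IsClassFunction Cx h := fun g d => Finset.sum_congr rfl fun η _ => by
      rw [irr_isClassFunction η g d]
    have hk : ∀ b : RegClass p x, ker B (x * rep b) (x * rep c) = h (rep b) := fun b =>
      ker_eq_local hM hx hB (rep_regular hp b) (rep_regular hp c)
    have hfix : blockPart (overSet M B x) h (rep a) = h (rep a) := by
      rw [← sum_blockCoeff_mul_eq_blockPart _ hh]
      simp only [h, Finset.mul_sum]
      rw [Finset.sum_comm]
      refine Finset.sum_congr rfl fun η _ => ?_
      by_cases hη : η ∈ overSet M B x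
      · simp only [if_pos hη, ← mul_assoc, ← Finset.sum_mul]
        rw [sum_mul_char_mul η.2 (isClassFunction_blockCoeff _), omega_blockCoeff, if_pos hη,
          one_mul]
      · simp [hη]
    calc ∑ b, Ec a b * Ec b c
        = (Nat.card Cx : ℂ)⁻¹ * (size c : ℂ) * ∑ b, Ec a b * h (rep b) := by
          rw [Finset.mul_sum]
          refine Finset.sum_congr rfl fun b _ => ?_
          rw [← hk b]; simp only [Ec]; ring
      _ = _ := by
          rw [hEh h hh a, sum_blockCoeff_mul_eq_blockPart _ hh, hfix, ← hk a]
          simp only [Ec]; ring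
  have hEπ : ∀ a b, E (π a) (π b) = E a b := by
    intro a b
    apply Subtype.ext
    show Ec (π a) (π b) = Ec a b
    simp only [Ec, hsize]
    congr 2
    rw [← hinv (rep a) (rep b) (rep_regular hp a) (rep_regular hp b)]
    have h1 := classFunction_conj
      (isClassFunction_ker_left (B := B) (x := x) (x * rep (π b))) (hπr a)
    have h2 := classFunction_conj
      (isClassFunction_ker_right (B := B) (x := x) (x * θ (rep a))) (hπr b)
    exact h1.trans h2
  -- the basis in the residue field
  let lift : ResField M → locSubring M := Function.surjInv red_surjective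
  have hlift : ∀ t, red M (lift t) = t := Function.surjInv_eq red_surjective
  let H : Fin S.m → Cx → ℂ := fun i c =>
    ((lift (S.tr (MonoidAlgebra.of (ResField M) Cx c) i) : locSubring M) : ℂ)
  let A : Matrix (RegClass p x) (RegClass p x) (locSubring M) :=
    Matrix.of fun a b => lift (S.tr (MonoidAlgebra.of (ResField M) Cx (rep a)) (e0 b))
  let τ : Equiv.Perm (RegClass p x) := (e0.trans σ.symm).trans e0.symm
  have hA : ∀ a b, A (π a) (τ b) = A a b := by
    intro a b
    simp only [A, Matrix.of_apply, τ, Equiv.trans_apply, Equiv.apply_symm_apply]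
    congr 1
    rw [hcoe _ _ _ (hπr a), hσ, Equiv.apply_symm_apply]
  have hdet : (A.map (IsLocalRing.residue (locSubring M))).det ≠ 0 := by
    intro h0
    obtain ⟨v, hv, hv0⟩ := Matrix.exists_vecMul_eq_zero_iff.2 h0
    refine hv (funext fun a₀ => ?_)
    obtain ⟨co, hco⟩ := S.exists_sep p (g₀ := rep a₀) a₀.2.choose_spec.2
    have h : ∑ a, v a * (∑ i, co i * S.tr (MonoidAlgebra.of (ResField M) Cx (rep a)) i) = 0 := by
      simp only [Finset.mul_sum]
      rw [Finset.sum_comm]
      refine Finset.sum_eq_zero fun i _ => ?_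
      have := congrFun hv0 (e0.symm i)
      simp only [Matrix.vecMul, dotProduct, Matrix.map_apply, A, Matrix.of_apply,
        Equiv.apply_symm_apply, Pi.zero_apply] at this
      simp only [show ∀ t, IsLocalRing.residue (locSubring M) (lift t) = t from hlift] at this
      calc ∑ a, v a * (co i * S.tr (MonoidAlgebra.of (ResField M) Cx (rep a)) i) =
            co i * ∑ a, v a * S.tr (MonoidAlgebra.of (ResField M) Cx (rep a)) i := by
            rw [Finset.mul_sum]; exact Finset.sum_congr rfl fun a _ => by ring
        _ = 0 := by rw [this, mul_zero]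
    rw [Finset.sum_eq_single a₀] at h
    · exact (mul_eq_zero.1 h).resolve_right
        ((hco _ a₀.2.choose_spec.2).2 (IsConj.refl _))
    · intro a _ hne
      have hz : (∑ i, co i * S.tr (MonoidAlgebra.of (ResField M) Cx (rep a)) i) = 0 := by
        by_contra hne'
        have h1 := ConjClasses.mk_eq_mk_iff_isConj.2 ((hco _ a.2.choose_spec.2).1 hne')
        change ConjClasses.mk (rep a) = ConjClasses.mk (rep a₀) at h1
        rw [mk_rep, mk_rep] at h1
        exact hne (Subtype.ext h1)
      rw [hz, mul_zero]
    · simp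
  -- the central idempotent
  set U := overSet M B x
  have heR : ∀ c, MemLocalRing M (blockCoeff U c) := memLocalRing_blockCoeff_overSet hM
  set ε := redAlg (blockCoeff U) heR with hε
  have hεid : ε * ε = ε := by
    have hcv : ∀ c, MemLocalRing M (conv (blockCoeff U) (blockCoeff U) c) := fun c => by
      rw [blockCoeff_conv_self]; exact heR c
    rw [hε, ← redAlg_conv (hc := hcv)]
    congr 1
    exact blockCoeff_conv_self U
  have hεc : ∀ z, Commute z ε := by
    intro z
    induction z using MonoidAlgebra.induction_on with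
    | of g =>
      show MonoidAlgebra.of _ _ g * ε = ε * MonoidAlgebra.of _ _ g
      simp only [hε, redAlg, Finset.mul_sum, Finset.sum_mul, MonoidAlgebra.of_apply,
        MonoidAlgebra.single_mul_single, one_mul, mul_one]
      refine Fintype.sum_equiv (MulAut.conj g).toEquiv _ _ fun c => ?_
      congr 1
      · simp [mul_assoc]
      · congr 1
        exact Subtype.ext (isClassFunction_blockCoeff U c g).symm
    | add a b ha hb => exact ha.add_left hb
    | smul r a ha => exact ha.smul_left r
  have hsc : ∀ i, S.π ε i = 0 ∨ S.π ε i = 1 := by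
    intro i
    haveI := S.ne i
    obtain ⟨c, hc1⟩ : S.π ε i ∈ Set.range (Matrix.scalar (Fin (S.d i))) := by
      refine Matrix.mem_range_scalar_of_commute_single fun a b _ => ?_
      obtain ⟨z, hz⟩ := S.surj (Pi.single i (Matrix.single a b 1))
      have h1 := congrArg (fun w => S.π w i) (hεc z).eq
      simp only [map_mul, Pi.mul_apply, hz, Pi.single_eq_same] at h1
      exact h1
    have hidem : S.π ε i * S.π ε i = S.π ε i := by rw [← Pi.mul_apply, ← map_mul, hεid]
    rw [← hc1, ← map_mul] at hidem
    rcases IsIdempotentElem.iff_eq_zero_or_one.1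
      (show IsIdempotentElem c from Matrix.scalar_inj.1 hidem) with h | h
    · exact Or.inl (by rw [← hc1, h, map_zero])
    · exact Or.inr (by rw [← hc1, h, map_one])
  have hEA : ∀ a b, IsLocalRing.residue (locSubring M) ((E * A) a b) =
      if S.π ε (e0 b) = 1 then IsLocalRing.residue (locSubring M) (A a b) else 0 := by
    intro a b
    set i := e0 b
    have hH : IsClassFunction Cx (H i) := fun g d => by
      simp only [H]; rw [hcoe _ i g (isConj_iff.2 ⟨d⁻¹, by group⟩)]
    have h1 : (E * A) a b = ∑ c : Cx, (⟨blockCoeff U c, heR c⟩ : locSubring M) *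
        lift (S.tr (MonoidAlgebra.of (ResField M) Cx (c * rep a)) i) := by
      apply Subtype.ext
      rw [Matrix.mul_apply, AddSubmonoidClass.coe_finsetSum, AddSubmonoidClass.coe_finsetSum]
      exact hEh (H i) hH a
    have h2 : red M ((E * A) a b) = S.tr (ε * MonoidAlgebra.of (ResField M) Cx (rep a)) i := by
      rw [h1, map_sum, hε, redAlg, Finset.sum_mul, map_sum, Finset.sum_apply]
      refine Finset.sum_congr rfl fun c _ => ?_
      rw [map_mul, hlift]
      have : MonoidAlgebra.single c (red M ⟨blockCoeff U c, heR c⟩) *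
          MonoidAlgebra.of (ResField M) Cx (rep a) =
          red M ⟨blockCoeff U c, heR c⟩ • MonoidAlgebra.of (ResField M) Cx (c * rep a) := by
        simp [MonoidAlgebra.single_mul_single]
      rw [this, map_smul, Pi.smul_apply, smul_eq_mul]
    rw [h2, Split.tr_apply, map_mul, Pi.mul_apply]
    have hAab : IsLocalRing.residue (locSubring M) (A a b) =
        S.tr (MonoidAlgebra.of (ResField M) Cx (rep a)) i := hlift _
    by_cases hd : S.π ε i = 1
    · rw [if_pos hd, hd, one_mul, hAab, Split.tr_apply]
    · rw [if_neg hd, (hsc i).resolve_right hd, zero_mul, Matrix.trace_zero]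
  obtain ⟨n, hn⟩ := exists_natCast_eq_trace π τ E A hE hEπ hA hdet
    (fun b => S.π ε (e0 b) = 1) hEA
  refine ⟨n, ?_⟩
  have hn' : ∑ a, Ec (π a) a = (n : ℂ) := by
    have := congrArg Subtype.val hn
    rw [AddSubmonoidClass.coe_finsetSum] at this
    exact this.trans (map_natCast (locSubring M).subtype n)
  rw [sum_regular (f := fun y : Cx => ker B (x * θ y) (x * y)) hp, ← hn', Finset.sum_mul]
  · refine Finset.sum_congr rfl fun a _ => ?_
    have h1 := classFunction_conj
      (isClassFunction_ker_left (B := B) (x := x) (x * rep a)) (hπr a)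
    simp only [Ec, h1]
    field_simp
  · intro g d
    have h1 := fun z => classFunction_conj (isClassFunction_ker_left (B := B) (x := x) z)
      (show IsConj (θ g) (θ (d * g * d⁻¹)) from isConj_iff.2 ⟨θ d, by simp⟩)
    have h2 := isClassFunction_ker_right (B := B) (x := x) (x * θ g) g d
    simp only at h1 h2 ⊢
    rw [← h1, h2]

end Cfsg.Agent.Lib.BlockRational
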